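import Cfsg.Agent.H776.P4.Stmts

/-!
# S5210, (3B): the third point, `q = 3`

`n` is the Weyl element on `Q`, `s` the restriction of `ε_v`, `x` the conjugation by `(0, 0, 0, 1)`. Then
`s⁻¹ n s = x n x⁻¹ (s n s⁻¹) x⁻¹ n⁻¹ x` if `v v* = 1`, and `s = n (s⁻¹ n s) (s n s⁻¹) n⁻¹` if `v v* = -1`.
-/

set_option autoImplicit false

namespace Cfsg.Agent.H898.P4

open Cfsg Cfsg.FusionSystem
open Cfsg.Agent.H756.PU (HypK)
open Cfsg.Agent.H776.P4

universe u

section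
variable {K : Type u} [Field K] [StarRing K]

/-- the restriction of `ε_κ` to `Q` -/
structure IsEpQ (κ : K) (t : MulAut (PQ K)) : Prop where
  r : ∀ e : PQ K, ((t e : PQ K) : PG K).r = (e : PG K).r
  a : ∀ e : PQ K, ((t e : PQ K) : PG K).a =
    (e : PG K).a - (star κ * ((e : PG K).r * (e : PG K).r) + κ * star ((e : PG K).r * (e : PG K).r))
  b : ∀ e : PQ K, ((t e : PQ K) : PG K).b = (e : PG K).b + κ * star (e : PG K).r

/-- conjugation by `(0, 0, 0, c)` -/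
structure IsXc (c : K) (x : MulAut (PQ K)) : Prop where
  r : ∀ e : PQ K, ((x e : PQ K) : PG K).r = (e : PG K).r
  a : ∀ e : PQ K, ((x e : PQ K) : PG K).a = (e : PG K).a - c * ((e : PG K).r * star (e : PG K).r)
  b : ∀ e : PQ K, ((x e : PQ K) : PG K).b = (e : PG K).b - c * (e : PG K).r

/-- the inverse of the Weyl element -/
structure IsWi (γ : MulAut (PQ K)) : Prop where
  r : ∀ e : PQ K, ((γ e : PQ K) : PG K).r = - (e : PG K).b
  a : ∀ e : PQ K, ((γ e : PQ K) : PG K).a =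
    (e : PG K).a - ((e : PG K).r * star (e : PG K).b + star (e : PG K).r * (e : PG K).b)
  b : ∀ e : PQ K, ((γ e : PQ K) : PG K).b = (e : PG K).r

theorem pq_ext {e f : PQ K} (hr : (e : PG K).r = (f : PG K).r) (ha : (e : PG K).a = (f : PG K).a)
    (hb : (e : PG K).b = (f : PG K).b) : e = f :=
  Subtype.ext (PG.ext hr ha hb ((show (e : PG K).c = 0 from e.2).trans (show (f : PG K).c = 0 from f.2).symm))

theorem aut_ext {γ δ : MulAut (PQ K)} (hr : ∀ e, ((γ e : PQ K) : PG K).r = ((δ e : PQ K) : PG K).r)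
    (ha : ∀ e, ((γ e : PQ K) : PG K).a = ((δ e : PQ K) : PG K).a)
    (hb : ∀ e, ((γ e : PQ K) : PG K).b = ((δ e : PQ K) : PG K).b) : γ = δ :=
  MulEquiv.ext fun e => pq_ext (hr e) (ha e) (hb e)

theorem isEpQ_of {κ : K} {ε : MulAut (PG K)} (hε : IsEp κ ε) {t : MulAut (PQ K)} (ht : IsRP ε t) : IsEpQ κ t :=
  ⟨fun e => by rw [ht e, hε.r], fun e => by rw [ht e, hε.a], fun e => by rw [ht e, hε.b]⟩

theorem IsEpQ.eq {κ : K} {s t : MulAut (PQ K)} (hs : IsEpQ κ s) (ht : IsEpQ κ t) : s = t :=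
  aut_ext (fun e => by rw [hs.r, ht.r]) (fun e => by rw [hs.a, ht.a]) (fun e => by rw [hs.b, ht.b])

theorem IsEpQ.inv {κ : K} {s : MulAut (PQ K)} (hs : IsEpQ κ s) : IsEpQ (-κ) s⁻¹ := by
  have key : ∀ e, s (s⁻¹ e) = e := fun e => MulAut.apply_inv_self _ s e
  have hr : ∀ e : PQ K, ((s⁻¹ e : PQ K) : PG K).r = (e : PG K).r := fun e => by
    have h := hs.r (s⁻¹ e)
    rw [key] at h
    exact h.symm
  refine ⟨hr, fun e => ?_, fun e => ?_⟩
  · have h := hs.a (s⁻¹ e)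
    rw [key, hr] at h
    rw [h, star_neg]
    ring
  · have h := hs.b (s⁻¹ e)
    rw [key, hr] at h
    rw [h]
    ring

theorem IsEpQ.mul {κ μ : K} {s t : MulAut (PQ K)} (hs : IsEpQ κ s) (ht : IsEpQ μ t) : IsEpQ (κ + μ) (s * t) := by
  refine ⟨fun e => ?_, fun e => ?_, fun e => ?_⟩
  · rw [MulAut.mul_apply, hs.r, ht.r]
  · rw [MulAut.mul_apply, hs.a, ht.r, ht.a, star_add]
    ring
  · rw [MulAut.mul_apply, hs.b, ht.r, ht.b]
    ring

theorem IsEpQ.comm {κ μ : K} {s t : MulAut (PQ K)} (hs : IsEpQ κ s) (ht : IsEpQ μ t) : s * t = t * s := by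
  have h := ht.mul hs
  rw [add_comm] at h
  exact (hs.mul ht).eq h

theorem isEpQ_one : IsEpQ (0 : K) 1 :=
  ⟨fun e => rfl, fun e => by simp, fun e => by simp⟩

theorem IsEpQ.pow {κ : K} {s : MulAut (PQ K)} (hs : IsEpQ κ s) (n : ℕ) : IsEpQ ((n : K) * κ) (s ^ n) := by
  induction n with
  | zero => simpa using isEpQ_one
  | succ n ih =>
    have h := ih.mul hs
    rw [pow_succ]
    have e : (n : K) * κ + κ = ((n + 1 : ℕ) : K) * κ := by push_cast; ring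
    rwa [e] at h

theorem isWi_inv {n : MulAut (PQ K)} (hn : IsWQ n) : IsWi n⁻¹ := by
  have key : ∀ e, n (n⁻¹ e) = e := fun e => MulAut.apply_inv_self _ n e
  have hb : ∀ e : PQ K, ((n⁻¹ e : PQ K) : PG K).b = (e : PG K).r := fun e => by
    have h := hn.r (n⁻¹ e)
    rw [key] at h
    exact h.symm
  have hr : ∀ e : PQ K, ((n⁻¹ e : PQ K) : PG K).r = - (e : PG K).b := fun e => by
    have h := hn.b (n⁻¹ e)
    rw [key] at h
    rw [h, neg_neg]
  refine ⟨hr, fun e => ?_, hb⟩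
  have h := hn.a (n⁻¹ e)
  rw [key, hr, hb, star_neg] at h
  rw [h]
  ring

theorem IsWQ.eq' {n m : MulAut (PQ K)} (hn : IsWQ n) (hm : IsWQ m) : n = m :=
  aut_ext (fun e => by rw [hn.r, hm.r]) (fun e => by rw [hn.a, hm.a]) (fun e => by rw [hn.b, hm.b])

/-- `ε_κ` commutes with the conjugations by `(0, 0, 0, c)` -/
theorem IsEpQ.comm_x {κ c : K} {s x : MulAut (PQ K)} (hs : IsEpQ κ s) (hx : IsXc c x) : s * x = x * s := by
  refine aut_ext (fun e => ?_) (fun e => ?_) (fun e => ?_)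
  · rw [MulAut.mul_apply, MulAut.mul_apply, hs.r, hx.r, hx.r, hs.r]
  · rw [MulAut.mul_apply, MulAut.mul_apply, hs.a, hx.r, hx.a, hx.a, hs.r, hs.a]
    ring
  · rw [MulAut.mul_apply, MulAut.mul_apply, hs.b, hx.r, hx.b, hx.b, hs.r, hs.b]
    ring

theorem IsXc.inv {c : K} {x : MulAut (PQ K)} (hx : IsXc c x) : IsXc (-c) x⁻¹ := by
  have key : ∀ e, x (x⁻¹ e) = e := fun e => MulAut.apply_inv_self _ x e
  have hr : ∀ e : PQ K, ((x⁻¹ e : PQ K) : PG K).r = (e : PG K).r := fun e => by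
    have h := hx.r (x⁻¹ e)
    rw [key] at h
    exact h.symm
  refine ⟨hr, fun e => ?_, fun e => ?_⟩
  · have h := hx.a (x⁻¹ e)
    rw [key, hr] at h
    rw [h]
    ring
  · have h := hx.b (x⁻¹ e)
    rw [key, hr] at h
    rw [h]
    ring

/-- the third point, `v v* = 1` -/
theorem word_one {v : K} (hv : v * star v = 1) (h3 : (3 : K) = 0) {n s x : MulAut (PQ K)} (hn : IsWQ n)
    (hs : IsEpQ v s) (hx : IsXc 1 x) :
    s⁻¹ * n * s = x * n * x⁻¹ * (s * n * s⁻¹) * x⁻¹ * n⁻¹ * x := by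
  have hi := hs.inv
  have hxi := hx.inv
  have hw := isWi_inv hn
  refine aut_ext (fun e => ?_) (fun e => ?_) (fun e => ?_)
  all_goals
    simp only [MulAut.mul_apply, hn.r, hn.a, hn.b, hs.r, hs.a, hs.b, hi.r, hi.a, hi.b, hx.r, hx.a, hx.b, hxi.r, hxi.a, hxi.b,
      hw.r, hw.a, hw.b, star_add, star_sub, star_mul', star_neg, star_star, star_one]
    generalize (e : PG K).r = r
    generalize (e : PG K).b = b
    generalize (e : PG K).a = a
  · linear_combination ((-1)*b + (1)*r) * hv +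
        (0) * h3
  · linear_combination ((2)*star b*star b*v + (-6)*b*star b + (1)*b*star b*v*star v + (2)*b*b*star v
        + (-3)*star r*star b*v + (13)*star r*b + (-1)*star r*b*v*star v + (2)*star r*star r*v
        + (13)*r*star b + (-1)*r*star b*v*star v + (-3)*r*b*star v + (-15)*r*star r
        + (1)*r*star r*v*star v + (2)*r*r*star v) * hv +
        ((1)*star b*star b*v + (-2)*b*star b + (1)*b*b*star v + (-2)*star r*star b*v + (4)*star r*b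
        + (2)*star r*star r*v + (4)*r*star b + (-2)*r*b*star v + (-4)*r*star r + (2)*r*r*star v) * h3
  · linear_combination ((1)*b + (-2)*r) * hv +
        (0) * h3

/-- `ε_v` is a word if `v v* = -1` -/
theorem word_neg_one {v : K} (hv : v * star v = -1) (h3 : (3 : K) = 0) {n s : MulAut (PQ K)} (hn : IsWQ n)
    (hs : IsEpQ v s) : s = n * (s⁻¹ * n * s) * (s * n * s⁻¹) * n⁻¹ := by
  have hi := hs.inv
  have hw := isWi_inv hn
  refine aut_ext (fun e => ?_) (fun e => ?_) (fun e => ?_)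
  all_goals
    simp only [MulAut.mul_apply, hn.r, hn.a, hn.b, hs.r, hs.a, hs.b, hi.r, hi.a, hi.b,
      hw.r, hw.a, hw.b, star_add, star_mul', star_neg, star_star]
    generalize (e : PG K).r = r
    generalize (e : PG K).b = b
    generalize (e : PG K).a = a
  · linear_combination ((2)*star b*v + (2)*r) * hv +
        (0) * h3
  · linear_combination ((2)*star b*star b*v + (-8)*star b*star b*v*v*star v + (2)*b*b*star v + (-8)*b*b*v*star v*star v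
        + (12)*star r*b + (-16)*star r*b*v*star v + (-8)*star r*star r*v + (12)*r*star b
        + (-16)*r*star b*v*star v + (-8)*r*r*star v) * hv +
        ((-2)*star b*star b*v + (-2)*b*b*star v + (-4)*star r*b + (3)*star r*star r*v + (-4)*r*star b
        + (3)*r*r*star v) * h3
  · linear_combination ((2)*b) * hv +
        ((1)*star r*v) * h3

/-! ### Conjugations and restrictions -/

theorem conj_mem (g : PG K) {e : PG K} (he : e ∈ PQ K) : g * e * g⁻¹ ∈ PQ K := by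
  have h : e.c = 0 := he
  show (g * e * g⁻¹).c = 0
  simp [h]

/-- conjugation by `g` on `Q` -/
def cj (g : PG K) : MulAut (PQ K) where
  toFun e := ⟨g * e * g⁻¹, conj_mem g e.2⟩
  invFun e := ⟨g⁻¹ * e * g, by simpa using conj_mem g⁻¹ e.2⟩
  left_inv e := Subtype.ext (by simp [mul_assoc])
  right_inv e := Subtype.ext (by simp [mul_assoc])
  map_mul' e f := Subtype.ext (by simp [mul_assoc])

theorem cj_mem (g : PG K) : cj g ∈ autInducedBy ⊤ (PQ K) :=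
  Subgroup.subset_closure ⟨g, Subgroup.mem_top _, fun _ => rfl⟩

theorem mem_A {γ : MulAut (PQ K)} : γ ∈ autInducedBy ⊤ (PQ K) ↔ ∃ g : PG K, γ = cj g := by
  rw [Cfsg.Agent.H802.mem_autInducedBy_iff]
  constructor
  · rintro ⟨g, -, hg⟩
    exact ⟨g, MulEquiv.ext fun e => Subtype.ext (hg e)⟩
  · rintro ⟨g, rfl⟩
    exact ⟨g, Subgroup.mem_top _, fun _ => rfl⟩

theorem cj_mul (g h : PG K) : cj (g * h) = cj g * cj h :=
  MulEquiv.ext fun e => Subtype.ext (by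
    rw [MulAut.mul_apply]
    show g * h * (e : PG K) * (g * h)⁻¹ = g * (h * e * h⁻¹) * g⁻¹
    group)

theorem cj_one : cj (1 : PG K) = 1 :=
  MulEquiv.ext fun e => Subtype.ext (by
    show (1 : PG K) * (e : PG K) * 1⁻¹ = e
    simp)

theorem cj_pow (g : PG K) (n : ℕ) : cj (g ^ n) = cj g ^ n := by
  induction n with
  | zero => simp [cj_one]
  | succ n ih => rw [pow_succ, pow_succ, cj_mul, ih]

theorem isXc_cj (c : K) (hc : star c = c) : IsXc c (cj ⟨0, 0, 0, c, star_zero K, hc⟩) := by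
  refine ⟨fun e => ?_, fun e => ?_, fun e => ?_⟩
  · show ((⟨0, 0, 0, c, star_zero K, hc⟩ : PG K) * e * (⟨0, 0, 0, c, star_zero K, hc⟩ : PG K)⁻¹).r = _
    simp
  · show ((⟨0, 0, 0, c, star_zero K, hc⟩ : PG K) * e * (⟨0, 0, 0, c, star_zero K, hc⟩ : PG K)⁻¹).a = _
    simp only [PG.mul_a, PG.inv_a, PG.inv_b, PG.inv_c, PG.mul_r, star_zero, star_add, star_neg, star_mul']
    ring
  · show ((⟨0, 0, 0, c, star_zero K, hc⟩ : PG K) * e * (⟨0, 0, 0, c, star_zero K, hc⟩ : PG K)⁻¹).b = _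
    simp only [PG.mul_b, PG.inv_b, PG.inv_c, PG.mul_r]
    ring

theorem cj_b (g : PG K) (e : PQ K) : ((cj g e : PQ K) : PG K).b = (e : PG K).b - g.c * (e : PG K).r := by
  have h : (e : PG K).c = 0 := e.2
  show (g * (e : PG K) * g⁻¹).b = _
  simp only [PG.mul_b, PG.inv_b, PG.inv_c, PG.mul_r, h]
  ring

theorem isRP_mul {α β : MulAut (PG K)} {γ δ : MulAut (PQ K)} (h : IsRP α γ) (h' : IsRP β δ) : IsRP (α * β) (γ * δ) :=
  fun e => by rw [MulAut.mul_apply, MulAut.mul_apply, h, h']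

theorem isRP_inv {α : MulAut (PG K)} {γ : MulAut (PQ K)} (h : IsRP α γ) : IsRP α⁻¹ γ⁻¹ := fun e => by
  have h1 := h (γ⁻¹ e)
  rw [MulAut.apply_inv_self] at h1
  rw [h1, MulAut.inv_apply_self]

theorem conj_cj {ε : MulAut (PG K)} {s : MulAut (PQ K)} (h : IsRP ε s) (g : PG K) : s * cj g * s⁻¹ = cj (ε g) :=
  MulEquiv.ext fun e => Subtype.ext (by
    rw [MulAut.mul_apply, MulAut.mul_apply, h]
    show ε (g * ((s⁻¹ e : PQ K) : PG K) * g⁻¹) = ε g * e * (ε g)⁻¹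
    rw [isRP_inv h, map_mul, map_mul, map_inv, MulAut.apply_inv_self])

theorem conj_mem_A {ε : MulAut (PG K)} {s : MulAut (PQ K)} (h : IsRP ε s) {γ : MulAut (PQ K)}
    (hγ : γ ∈ autInducedBy ⊤ (PQ K)) : s * γ * s⁻¹ ∈ autInducedBy ⊤ (PQ K) := by
  obtain ⟨g, rfl⟩ := mem_A.1 hγ
  rw [conj_cj h]
  exact cj_mem _

theorem mem_normalizer_A {ε : MulAut (PG K)} {s : MulAut (PQ K)} (h : IsRP ε s) :
    s ∈ Subgroup.normalizer ((autInducedBy ⊤ (PQ K) : Subgroup (MulAut (PQ K))) : Set (MulAut (PQ K))) := by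
  rw [Subgroup.mem_normalizer_iff]
  refine fun γ => ⟨fun hγ => conj_mem_A h hγ, fun hγ => ?_⟩
  have h1 := conj_mem_A (isRP_inv h) hγ
  rwa [inv_inv, show s⁻¹ * (s * γ * s⁻¹) * s = γ by group] at h1

theorem isEp_mul {κ μ : K} {s t : MulAut (PG K)} (hs : IsEp κ s) (ht : IsEp μ t) : IsEp (κ + μ) (s * t) := by
  refine ⟨fun e => ?_, fun e => ?_, fun e => ?_, fun e => ?_⟩
  · rw [MulAut.mul_apply, hs.r, ht.r]
  · rw [MulAut.mul_apply, hs.a, ht.r, ht.a, star_add]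
    ring
  · rw [MulAut.mul_apply, hs.b, ht.r, ht.b]
    ring
  · rw [MulAut.mul_apply, hs.c, ht.c]

theorem isEp_inv {κ : K} {s : MulAut (PG K)} (hs : IsEp κ s) : IsEp (-κ) s⁻¹ := by
  have key : ∀ e, s (s⁻¹ e) = e := fun e => MulAut.apply_inv_self _ s e
  have hr : ∀ e : PG K, (s⁻¹ e).r = e.r := fun e => by
    have h := hs.r (s⁻¹ e)
    rw [key] at h
    exact h.symm
  refine ⟨hr, fun e => ?_, fun e => ?_, fun e => ?_⟩
  · have h := hs.a (s⁻¹ e)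
    rw [key, hr] at h
    rw [h, star_neg]
    ring
  · have h := hs.b (s⁻¹ e)
    rw [key, hr] at h
    rw [h]
    ring
  · have h := hs.c (s⁻¹ e)
    rw [key] at h
    exact h.symm

/-! ### `PG K` is a `3`-group -/

theorem pg_pow_nine (h3 : (3 : K) = 0) (g : PG K) : g ^ 9 = 1 := by
  have hr : (g ^ 3).r = 0 := by
    simp only [pow_succ, pow_zero, one_mul, PG.mul_r]
    linear_combination g.r * h3
  have hc : (g ^ 3).c = 0 := by
    simp only [pow_succ, pow_zero, one_mul, PG.mul_c]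
    linear_combination g.c * h3
  rw [show 9 = 3 * 3 from rfl, pow_mul]
  generalize g ^ 3 = x at hr hc
  ext
  · simp [pow_succ, hr]
  · simp only [pow_succ, pow_zero, one_mul, PG.mul_a, PG.mul_r, hr, hc, PG.one_a, add_zero, star_zero]
    linear_combination x.a * h3
  · simp only [pow_succ, pow_zero, one_mul, PG.mul_b, PG.mul_r, hr, hc, PG.one_b]
    linear_combination x.b * h3
  · simp [pow_succ, hc]

theorem isPGroup_A (h3 : (3 : K) = 0) : IsPGroup 3 (autInducedBy ⊤ (PQ K) : Subgroup (MulAut (PQ K))) := by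
  rintro ⟨γ, hγ⟩
  obtain ⟨g, rfl⟩ := mem_A.1 hγ
  refine ⟨2, Subtype.ext ?_⟩
  show cj g ^ (3 ^ 2) = 1
  rw [← cj_pow, show 3 ^ 2 = 9 from rfl, pg_pow_nine h3, cj_one]

theorem finite_PG [Finite K] : Finite (PG K) :=
  Finite.of_injective (fun g : PG K => (g.r, g.a, g.b, g.c)) fun x y h => by
    simp only [Prod.mk.injEq] at h
    exact PG.ext h.1 h.2.1 h.2.2.1 h.2.2.2

/-- the Sylow condition excludes `ε_v`, `v ^ 4 = -1` -/
theorem not_mem_of_syl [Finite K] (h3 : (3 : K) = 0) (hst : ∀ x : K, star x = x ^ 3) {v : K} (hv : v ^ 4 = -1)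
    {Γ : Subgroup (MulAut (PQ K))} (hA : autInducedBy ⊤ (PQ K) ≤ Γ)
    (hS : ∀ P : Subgroup (MulAut (PQ K)), P ≤ Γ → IsPGroup 3 P → ∃ g ∈ Γ, ∀ x ∈ P, g * x * g⁻¹ ∈ autInducedBy ⊤ (PQ K))
    {ε : MulAut (PG K)} {s : MulAut (PQ K)} (hs : IsEpQ v s) (hε : IsRP ε s) : s ∉ Γ := by
  intro hsΓ
  have := Fact.mk Nat.prime_three
  have : Finite (PG K) := finite_PG
  have : Finite (MulAut (PQ K)) := DFunLike.finite _
  have hs3 : s ^ 3 = 1 := by
    have h := hs.pow 3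
    have e : ((3 : ℕ) : K) * v = 0 := by
      push_cast
      rw [h3, zero_mul]
    rw [e] at h
    exact h.eq isEpQ_one
  have hz : IsPGroup 3 (Subgroup.zpowers s) := by
    rintro ⟨γ, hγ⟩
    obtain ⟨k, rfl⟩ := Subgroup.mem_zpowers_iff.1 hγ
    refine ⟨1, Subtype.ext ?_⟩
    show (s ^ k) ^ (3 ^ 1) = 1
    rw [pow_one, ← zpow_natCast, ← zpow_mul, mul_comm, zpow_mul, zpow_natCast, hs3, one_zpow]
  have hP := hz.to_sup_of_normal_right' (isPGroup_A h3) ((Subgroup.zpowers_le).2 (mem_normalizer_A hε))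
  obtain ⟨g, -, hgP⟩ := hS _ (sup_le ((Subgroup.zpowers_le).2 hsΓ) hA) hP
  set P : Subgroup (MulAut (PQ K)) := Subgroup.zpowers s ⊔ autInducedBy ⊤ (PQ K) with hPdef
  have hle : P.map (MulAut.conj g).toMonoidHom ≤ autInducedBy ⊤ (PQ K) := by
    rintro _ ⟨x, hx, rfl⟩
    exact hgP x hx
  have hcard : Nat.card P ≤ Nat.card (autInducedBy ⊤ (PQ K) : Subgroup (MulAut (PQ K))) := by
    have h1 := Subgroup.card_le_of_le hle
    rwa [Subgroup.card_map_of_injective (MulAut.conj g).injective] at h1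
  have hAP : autInducedBy ⊤ (PQ K) = P := Subgroup.eq_of_le_of_card_ge le_sup_right hcard
  have hsA : s ∈ autInducedBy ⊤ (PQ K) := by
    rw [hAP]
    exact le_sup_left (a := Subgroup.zpowers s) (Subgroup.mem_zpowers s)
  obtain ⟨y, rfl⟩ := mem_A.1 hsA
  have h1 := hs.b ⟨⟨1, 0, 0, 0, star_zero K, star_zero K⟩, rfl⟩
  rw [cj_b] at h1
  simp only [star_one, mul_one, zero_sub, zero_add] at h1
  have h2 : v ^ 3 = v := by
    rw [← hst, ← h1, star_neg, y.hc]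
  have h4 : v ^ 2 = -1 := by
    rw [← hv, show v ^ 4 = v ^ 3 * v by ring, h2]
    ring
  have h5 : v ^ 4 = v ^ 2 * v ^ 2 := by ring
  rw [h4, hv] at h5
  have h6 : (1 : K) = 0 := by linear_combination h3 + h5
  exact one_ne_zero h6

end

/-- (3B) -/
theorem stThreeB : StThreeB.{u} := by
  intro K _ _ p n hK hq Γ hA
  have := hK.fin
  have hp3 : p = 3 := (Nat.prime_dvd_prime_iff_eq hK.pp Nat.prime_three).1 (by
    rw [← hq]
    exact dvd_pow_self p (by have := hK.hn; omega))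
  subst hp3
  have h3 : (3 : K) = 0 := by
    have := hK.char
    exact_mod_cast CharP.cast_eq_zero K 3
  have hst : ∀ x : K, star x = x ^ 3 := fun x => by rw [hK.star_eq, hq]
  have hvv : ∀ v : K, v * star v = v ^ 4 := fun v => by rw [hst]; ring
  refine ⟨?_, ?_⟩
  · rintro κ ⟨_, h0, ε₀, m, t₀, hε₀, hm, ht₀, rfl⟩ v hv ⟨_, h1, ε₁, m₁, t₁, hε₁, hm₁, ht₁, rfl⟩
    obtain rfl : m = m₁ := IsWQ.eq' hm hm₁
    have ht₀' := isEpQ_of hε₀ ht₀
    have ht₁' := isEpQ_of hε₁ ht₁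
    have hs : IsEpQ v (t₀⁻¹ * t₁) := by
      have h := ht₀'.inv.mul ht₁'
      rwa [show -κ + (κ + v) = v by ring] at h
    have hx := isXc_cj (1 : K) (star_one K)
    have hxΓ := hA (cj_mem (⟨0, 0, 0, 1, star_zero K, star_one K⟩ : PG K))
    set x := cj (⟨0, 0, 0, 1, star_zero K, star_one K⟩ : PG K) with hxdef
    have hc := ht₀'.comm_x hx
    have hw := word_one (by rw [hvv, hv]) h3 hm hs hx
    have hε : IsEp (κ - v) (ε₀ * (ε₁⁻¹ * ε₀)) := by
      have h := isEp_mul hε₀ (isEp_mul (isEp_inv hε₁) hε₀)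
      rwa [show κ + (-(κ + v) + κ) = κ - v by ring] at h
    refine ⟨_, ?_, ε₀ * (ε₁⁻¹ * ε₀), m, t₀ * (t₁⁻¹ * t₀), hε, hm, isRP_mul ht₀ (isRP_mul (isRP_inv ht₁) ht₀), rfl⟩
    have key : t₀ * (t₁⁻¹ * t₀) * m * (t₀ * (t₁⁻¹ * t₀))⁻¹ =
        x * (t₀ * m * t₀⁻¹) * x⁻¹ * (t₁ * m * t₁⁻¹) * x⁻¹ * (t₀ * m * t₀⁻¹)⁻¹ * x := by
      have e1 : t₀ * (t₁⁻¹ * t₀) * m * (t₀ * (t₁⁻¹ * t₀))⁻¹ =
          t₀ * ((t₀⁻¹ * t₁)⁻¹ * m * (t₀⁻¹ * t₁)) * t₀⁻¹ := by group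
      rw [e1, hw]
      have e2 : t₀ * x * t₀⁻¹ = x := by rw [hc]; group
      have e3 : t₀ * (x * m * x⁻¹ * (t₀⁻¹ * t₁ * m * (t₀⁻¹ * t₁)⁻¹) * x⁻¹ * m⁻¹ * x) * t₀⁻¹ =
          (t₀ * x * t₀⁻¹) * (t₀ * m * t₀⁻¹) * (t₀ * x * t₀⁻¹)⁻¹ * (t₁ * m * t₁⁻¹) * (t₀ * x * t₀⁻¹)⁻¹ *
            (t₀ * m * t₀⁻¹)⁻¹ * (t₀ * x * t₀⁻¹) := by group
      rw [e3, e2]
    rw [key]
    exact mul_mem (mul_mem (mul_mem (mul_mem (mul_mem (mul_mem hxΓ h0) (inv_mem hxΓ)) h1) (inv_mem hxΓ)) (inv_mem h0)) hxΓ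
  · rintro hS κ ⟨_, h0, ε₀, m, t₀, hε₀, hm, ht₀, rfl⟩ v hv ⟨_, h1, ε₁, m₁, t₁, hε₁, hm₁, ht₁, rfl⟩
      ⟨_, h2, ε₂, m₂, t₂, hε₂, hm₂, ht₂, rfl⟩
    obtain rfl : m = m₁ := IsWQ.eq' hm hm₁
    obtain rfl : m = m₂ := IsWQ.eq' hm hm₂
    have ht₀' := isEpQ_of hε₀ ht₀
    have ht₁' := isEpQ_of hε₁ ht₁
    have ht₂' := isEpQ_of hε₂ ht₂
    have hs : IsEpQ v (t₀⁻¹ * t₁) := by
      have h := ht₀'.inv.mul ht₁'
      rwa [show -κ + (κ + v) = v by ring] at h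
    have e0 : t₂ = t₀ * (t₀⁻¹ * t₁)⁻¹ := by
      refine ht₂'.eq ?_
      have h := ht₀'.mul hs.inv
      rwa [show κ + -v = κ - v by ring] at h
    have hw := word_neg_one (by rw [hvv, hv]) h3 hm hs
    refine not_mem_of_syl h3 hst hv hA hS hs (isRP_mul (isRP_inv ht₀) ht₁) ?_
    have e2 : t₀ * (t₀⁻¹ * t₁) * t₀⁻¹ = t₀⁻¹ * t₁ := by rw [ht₀'.comm hs]; group
    have key : t₀⁻¹ * t₁ = (t₀ * m * t₀⁻¹) * (t₂ * m * t₂⁻¹) * (t₁ * m * t₁⁻¹) * (t₀ * m * t₀⁻¹)⁻¹ := by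
      have e3 : (t₀ * m * t₀⁻¹) * (t₂ * m * t₂⁻¹) * (t₁ * m * t₁⁻¹) * (t₀ * m * t₀⁻¹)⁻¹ =
          t₀ * (m * ((t₀⁻¹ * t₁)⁻¹ * m * (t₀⁻¹ * t₁)) * ((t₀⁻¹ * t₁) * m * (t₀⁻¹ * t₁)⁻¹) * m⁻¹) * t₀⁻¹ := by
        rw [e0]
        group
      rw [e3, ← hw, e2]
    rw [key]
    exact mul_mem (mul_mem (mul_mem h0 h2) h1) (inv_mem h0)

end Cfsg.Agent.H898.P4
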